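import Mathlib

/-!
# The lattice computation of boundary forms modulo δ

For `d : ℤ^r` of divisibility `D` the image of the symmetric bilinear forms `b ↦ (x ↦ b(d,x) + (1-g) b(x,x))`
in `Hom(ℤ^r, ℤ/δ)` is, in a basis starting with `d/D`, `(D+1-g) ℤ/δ × (gcd(g-1,D) ℤ/δ)^(r-1)`.
-/

set_option autoImplicit false

namespace BoundaryForms

variable (δ : ℕ)

/-- A basis whose first vector spans `d`, with multiplier the divisibility of `d`. -/
theorem exists_basis (m : ℕ) (d : Fin (m + 1) → ℤ) :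
    ∃ u : Module.Basis (Fin (m + 1)) ℤ (Fin (m + 1) → ℤ), d = (Finset.univ.gcd d) • u 0 := by
  classical
  set D := Finset.univ.gcd d with hD
  by_cases hd : D = 0
  · refine ⟨Pi.basisFun ℤ _, ?_⟩
    rw [hd, zero_smul]
    funext i
    exact Finset.gcd_eq_zero_iff.1 hd i (Finset.mem_univ _)
  have hdvd : ∀ i, D ∣ d i := fun i => Finset.gcd_dvd (Finset.mem_univ i)
  choose v hv using hdvd
  obtain ⟨c, hc⟩ := Finset.gcd_eq_sum_mul Finset.univ d
  let φ : (Fin (m + 1) → ℤ) →ₗ[ℤ] ℤ := ∑ i, c i • LinearMap.proj i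
  have hφv : φ v = 1 := by
    apply mul_left_cancel₀ hd
    have hsum : D = ∑ i, d i * c i := hc
    rw [mul_one]
    conv_rhs => rw [hsum]
    simp only [φ, LinearMap.sum_apply, LinearMap.smul_apply, LinearMap.proj_apply, smul_eq_mul, Finset.mul_sum]
    exact Finset.sum_congr rfl fun i _ => by rw [hv i]; ring
  let K := LinearMap.ker φ
  let e : (Fin (m + 1) → ℤ) ≃ₗ[ℤ] ℤ × K :=
    { toFun := fun x => (φ x, ⟨x - φ x • v,
        LinearMap.mem_ker.2 (by rw [map_sub, map_smul, hφv, smul_eq_mul, mul_one, sub_self])⟩)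
      invFun := fun z => z.1 • v + z.2.1
      map_add' := fun x y => by
        refine Prod.ext (map_add φ x y) (Subtype.ext ?_)
        show x + y - φ (x + y) • v = (x - φ x • v) + (y - φ y • v)
        rw [map_add, add_smul]; abel
      map_smul' := fun t x => by
        refine Prod.ext (map_smul φ t x) (Subtype.ext ?_)
        show t • x - φ (t • x) • v = t • (x - φ x • v)
        rw [map_smul, smul_eq_mul, mul_smul, smul_sub]
      left_inv := fun x => by
        show φ x • v + (x - φ x • v) = x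
        abel
      right_inv := fun z => by
        obtain ⟨a, k, hk⟩ := z
        have hk0 : φ k = 0 := hk
        have h1 : φ (a • v + k) = a := by rw [map_add, map_smul, hφv, hk0, smul_eq_mul, mul_one, add_zero]
        refine Prod.ext h1 (Subtype.ext ?_)
        show a • v + k - φ (a • v + k) • v = k
        rw [h1]; abel }
  have hrank : Module.finrank ℤ K = m := by
    have := e.finrank_eq
    rw [Module.finrank_prod, Module.finrank_self, Module.finrank_fintype_fun_eq_card, Fintype.card_fin] at this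
    omega
  let bK := Module.finBasisOfFinrankEq ℤ K hrank
  let f : (ℤ × K) ≃ₗ[ℤ] (Fin (m + 1) → ℤ) :=
    ((LinearEquiv.refl ℤ ℤ).prodCongr bK.equivFun).trans (Fin.consLinearEquiv ℤ (fun _ : Fin (m + 1) => ℤ))
  refine ⟨Module.Basis.ofEquivFun (e.trans f), ?_⟩
  have h0 : (e.trans f) v = Pi.single 0 1 := by
    have : e v = (1, 0) := by
      refine Prod.ext hφv (Subtype.ext ?_)
      show v - φ v • v = 0
      rw [hφv, one_smul, sub_self]
    rw [LinearEquiv.trans_apply, this]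
    show (Fin.cons (1 : ℤ) (bK.equivFun 0) : Fin (m + 1) → ℤ) = _
    rw [map_zero]
    funext i
    cases i using Fin.cases <;> simp
  rw [Module.Basis.coe_ofEquivFun]
  show d = D • (e.trans f).symm (Pi.single 0 1)
  rw [← h0, LinearEquiv.symm_apply_apply]
  funext i
  exact hv i

/-- The generators. -/
def gens {r : ℕ} (g : ℤ) (d : Fin r → ℤ) : Set ((Fin r → ℤ) →+ ZMod δ) :=
  {φ | ∃ b : LinearMap.BilinForm ℤ (Fin r → ℤ), b.IsSymm ∧
      ∀ x, φ x = ((b d x + (1 - g) * b x x : ℤ) : ZMod δ)}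

/-- Values on a basis. -/
noncomputable def evalBasis {m : ℕ} (u : Module.Basis (Fin (m + 1)) ℤ (Fin (m + 1) → ℤ)) :
    ((Fin (m + 1) → ℤ) →+ ZMod δ) ≃+ ZMod δ × (Fin m → ZMod δ) where
  toFun φ := (φ (u 0), fun i => φ (u i.succ))
  invFun z := (u.constr ℤ (Fin.cons z.1 z.2 : Fin (m + 1) → ZMod δ)).toAddMonoidHom
  left_inv φ := by
    refine AddMonoidHom.toIntLinearMap_injective (u.ext fun i => ?_)
    show u.constr ℤ (Fin.cons (φ (u 0)) (fun i => φ (u i.succ)) : Fin (m + 1) → ZMod δ) (u i) = φ (u i)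
    rw [Module.Basis.constr_basis]
    cases i using Fin.cases <;> simp
  right_inv z := by
    obtain ⟨z0, z1⟩ := z
    ext <;> simp
  map_add' φ ψ := rfl

/-- The subgroup of values of the generators. -/
def valueSubgroup {m : ℕ} (a₀ a₁ : ℤ) : AddSubgroup (ZMod δ × (Fin m → ZMod δ)) :=
  (AddSubgroup.zmultiples (a₀ : ZMod δ)).prod (AddSubgroup.pi Set.univ fun _ => AddSubgroup.zmultiples (a₁ : ZMod δ))

theorem mem_valueSubgroup {m : ℕ} {a₀ a₁ : ℤ} {z : ZMod δ × (Fin m → ZMod δ)} :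
    z ∈ valueSubgroup δ a₀ a₁ ↔
      z.1 ∈ AddSubgroup.zmultiples (a₀ : ZMod δ) ∧ ∀ i, z.2 i ∈ AddSubgroup.zmultiples (a₁ : ZMod δ) := by
  simp [valueSubgroup, AddSubgroup.mem_prod, AddSubgroup.mem_pi]

theorem map_closure_gens {m : ℕ} (g : ℤ) (hδ : (δ : ℤ) ∣ 2 * (g - 1)) (d : Fin (m + 1) → ℤ)
    (u : Module.Basis (Fin (m + 1)) ℤ (Fin (m + 1) → ℤ)) (D : ℤ) (hu : d = D • u 0) :
    (AddSubgroup.closure (gens δ g d)).map (evalBasis δ u).toAddMonoidHom =
      valueSubgroup δ (D + 1 - g) (Int.gcd (g - 1) D) := by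
  classical
  apply le_antisymm
  · rw [AddMonoidHom.map_closure, AddSubgroup.closure_le]
    rintro _ ⟨φ, ⟨b, -, hφ⟩, rfl⟩
    rw [SetLike.mem_coe, mem_valueSubgroup]
    constructor
    · refine AddSubgroup.mem_zmultiples_iff.2 ⟨b (u 0) (u 0), ?_⟩
      show _ = φ (u 0)
      rw [hφ, hu, map_smul, LinearMap.smul_apply, smul_eq_mul, zsmul_eq_mul, ← Int.cast_mul]
      congr 1; ring
    · intro i
      show φ (u i.succ) ∈ _
      rw [hφ, hu, map_smul, LinearMap.smul_apply, smul_eq_mul, AddSubgroup.mem_zmultiples_iff]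
      obtain ⟨p, hp⟩ := Int.gcd_dvd_left (g - 1) D
      obtain ⟨q, hq⟩ := Int.gcd_dvd_right (g - 1) D
      refine ⟨q * b (u 0) (u i.succ) - p * b (u i.succ) (u i.succ), ?_⟩
      rw [zsmul_eq_mul, ← Int.cast_mul]
      congr 1
      linear_combination (b (u i.succ) (u i.succ)) * hp - (b (u 0) (u i.succ)) * hq
  · rintro ⟨z0, z1⟩ hz
    rw [mem_valueSubgroup] at hz
    obtain ⟨k0, hk0⟩ := AddSubgroup.mem_zmultiples_iff.1 hz.1
    choose k hk using fun i => AddSubgroup.mem_zmultiples_iff.1 (hz.2 i)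
    have hbez := Int.gcd_eq_gcd_ab (g - 1) D
    set x := Int.gcdA (g - 1) D
    set y := Int.gcdB (g - 1) D
    let M : Matrix (Fin (m + 1)) (Fin (m + 1)) ℤ := Matrix.of fun i j =>
      Fin.cases (Fin.cases k0 (fun j => y * k j) j)
        (fun i => Fin.cases (y * k i) (fun j => if i = j then -(x * k i) else 0) j) i
    have hM : ∀ i j, M i j = M j i := by
      intro i j
      cases i using Fin.cases <;> cases j using Fin.cases <;> simp [M]
      split_ifs with h h' h' <;> simp_all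
    let b := Matrix.toBilin u M
    have hb : ∀ i j, b (u i) (u j) = M i j := fun i j => by
      have h := congrFun (congrFun (LinearEquiv.apply_symm_apply (LinearMap.BilinForm.toMatrix u) M) i) j
      rw [LinearMap.BilinForm.toMatrix_apply] at h
      exact h
    have hsymm : b.IsSymm := ⟨fun v w => by
      simp only [b, Matrix.toBilin_apply]
      rw [Finset.sum_comm]
      exact Finset.sum_congr rfl fun i _ => Finset.sum_congr rfl fun j _ => by rw [hM j i]; ring⟩
    let φ : (Fin (m + 1) → ℤ) →+ ZMod δ :=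
      AddMonoidHom.mk' (fun v => ((b d v + (1 - g) * b v v : ℤ) : ZMod δ)) (fun v w => by
        rw [← Int.cast_add, ZMod.intCast_eq_intCast_iff_dvd_sub]
        refine hδ.trans ⟨b v w, ?_⟩
        have hwv : b w v = b v w := (hsymm.eq v w).symm
        simp only [map_add, LinearMap.add_apply, hwv]
        ring)
    refine ⟨φ, AddSubgroup.subset_closure ⟨b, hsymm, fun _ => rfl⟩, ?_⟩
    refine Prod.ext ?_ (funext fun i => ?_)
    · show ((b d (u 0) + (1 - g) * b (u 0) (u 0) : ℤ) : ZMod δ) = z0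
      rw [← (show _ = z0 from hk0), hu, map_smul, LinearMap.smul_apply, smul_eq_mul, hb, zsmul_eq_mul, ← Int.cast_mul]
      congr 1
      simp [M]; ring
    · show ((b d (u i.succ) + (1 - g) * b (u i.succ) (u i.succ) : ℤ) : ZMod δ) = z1 i
      rw [← (show _ = z1 i from hk i), hu, map_smul, LinearMap.smul_apply, smul_eq_mul, hb, hb, zsmul_eq_mul, ← Int.cast_mul]
      congr 1
      simp [M]
      linear_combination (k i) * (-hbez)

theorem zmultiples_intCast (a : ℤ) :
    AddSubgroup.zmultiples (a : ZMod δ) = AddSubgroup.zmultiples ((Int.gcd δ a : ℕ) : ZMod δ) := by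
  refine le_antisymm (AddSubgroup.zmultiples_le_of_mem ?_) (AddSubgroup.zmultiples_le_of_mem ?_)
  · obtain ⟨q, hq⟩ := Int.gcd_dvd_right (δ : ℤ) a
    refine AddSubgroup.mem_zmultiples_iff.2 ⟨q, ?_⟩
    conv_rhs => rw [hq]
    push_cast
    rw [zsmul_eq_mul]; ring
  · refine AddSubgroup.mem_zmultiples_iff.2 ⟨Int.gcdB δ a, ?_⟩
    have h := congrArg (fun z : ℤ => (z : ZMod δ)) (Int.gcd_eq_gcd_ab (δ : ℤ) a)
    push_cast at h
    rw [h, ZMod.natCast_self, zero_mul, zero_add, zsmul_eq_mul]; ring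

/-- Reduction modulo `gcd(δ,a)`. -/
def red (a : ℤ) : ZMod δ →+ ZMod (Int.gcd δ a) :=
  (ZMod.castHom (Int.natCast_dvd_natCast.1 (Int.gcd_dvd_left (δ : ℤ) a)) (ZMod (Int.gcd δ a))).toAddMonoidHom

theorem red_surjective (a : ℤ) : Function.Surjective (red δ a) :=
  ZMod.ringHom_surjective _

theorem mem_zmultiples_iff_red (a : ℤ) (z : ZMod δ) :
    z ∈ AddSubgroup.zmultiples (a : ZMod δ) ↔ red δ a z = 0 := by
  obtain ⟨n, rfl⟩ := ZMod.intCast_surjective z
  have hred : red δ a (n : ZMod δ) = (n : ZMod (Int.gcd δ a)) := map_intCast (ZMod.castHom (Int.natCast_dvd_natCast.1 (Int.gcd_dvd_left (δ : ℤ) a)) (ZMod (Int.gcd δ a))) n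
  rw [hred, zmultiples_intCast, ZMod.intCast_zmod_eq_zero_iff_dvd, AddSubgroup.mem_zmultiples_iff]
  constructor
  · rintro ⟨k, hk⟩
    rw [zsmul_eq_mul, ← Int.cast_natCast (R := ZMod δ), ← Int.cast_mul, ZMod.intCast_eq_intCast_iff_dvd_sub] at hk
    have := (Int.gcd_dvd_left (δ : ℤ) a).trans hk
    exact (dvd_sub_left (dvd_mul_left _ _)).1 this
  · rintro ⟨q, rfl⟩
    exact ⟨q, by push_cast; rw [zsmul_eq_mul]; ring⟩

theorem quotient_equiv {r : ℕ} (hr : 0 < r) (g : ℤ) (hδ : (δ : ℤ) ∣ 2 * (g - 1)) (d : Fin r → ℤ) :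
    Nonempty ((((Fin r → ℤ) →+ ZMod δ) ⧸ AddSubgroup.closure (gens δ g d)) ≃+
      (ZMod (Int.gcd δ (Finset.univ.gcd d + 1 - g)) ×
        (Fin (r - 1) → ZMod (Int.gcd δ (Int.gcd (g - 1) (Finset.univ.gcd d)))))) := by
  obtain ⟨m, rfl⟩ : ∃ m, r = m + 1 := ⟨r - 1, by omega⟩
  obtain ⟨u, hu⟩ := exists_basis m d
  set D := Finset.univ.gcd d
  set a₁ : ℤ := (Int.gcd (g - 1) D : ℤ)
  let Ψ : ((Fin (m + 1) → ℤ) →+ ZMod δ) →+ ZMod (Int.gcd δ (D + 1 - g)) × (Fin m → ZMod (Int.gcd δ a₁)) :=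
    ((red δ (D + 1 - g)).prodMap ((red δ a₁).compLeft (Fin m))).comp (evalBasis δ u).toAddMonoidHom
  have hsurj : Function.Surjective Ψ :=
    ((red_surjective δ _).prodMap (red_surjective δ a₁).comp_left).comp (evalBasis δ u).surjective
  have hker : Ψ.ker = AddSubgroup.closure (gens δ g d) := by
    ext φ
    rw [← AddSubgroup.mem_map_iff_mem (f := (evalBasis δ u).toAddMonoidHom) (evalBasis δ u).injective
      (K := AddSubgroup.closure (gens δ g d)) (x := φ), map_closure_gens δ g hδ d u D hu, mem_valueSubgroup, mem_zmultiples_iff_red, AddMonoidHom.mem_ker,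
      Prod.mk_eq_zero]
    simp only [mem_zmultiples_iff_red, funext_iff]
    rfl
  exact ⟨(QuotientAddGroup.quotientAddEquivOfEq hker.symm).trans (QuotientAddGroup.quotientKerEquivOfSurjective Ψ hsurj)⟩

theorem zmultiples_equiv (hδ0 : 0 < δ) (a : ℤ) :
    Nonempty (AddSubgroup.zmultiples (a : ZMod δ) ≃+ ZMod (δ / Int.gcd δ a)) := by
  haveI : NeZero δ := ⟨hδ0.ne'⟩
  have hcard : Nat.card (AddSubgroup.zmultiples (a : ZMod δ)) = δ / Int.gcd δ a := by
    rw [zmultiples_intCast, Nat.card_zmultiples, ZMod.addOrderOf_coe _ hδ0.ne',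
      Nat.gcd_eq_right (Int.natCast_dvd_natCast.1 (Int.gcd_dvd_left (δ : ℤ) a))]
  exact ⟨(hcard ▸ (zmodAddCyclicAddEquiv inferInstance)).symm⟩

theorem closure_equiv {r : ℕ} (hr : 0 < r) (hδ0 : 0 < δ) (g : ℤ) (hδ : (δ : ℤ) ∣ 2 * (g - 1)) (d : Fin r → ℤ) :
    Nonempty (AddSubgroup.closure (gens δ g d) ≃+
      (ZMod (δ / Int.gcd δ (Finset.univ.gcd d + 1 - g)) ×
        (Fin (r - 1) → ZMod (δ / Int.gcd δ (Int.gcd (g - 1) (Finset.univ.gcd d)))))) := by
  obtain ⟨m, rfl⟩ : ∃ m, r = m + 1 := ⟨r - 1, by omega⟩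
  obtain ⟨u, hu⟩ := exists_basis m d
  set D := Finset.univ.gcd d
  set a₁ : ℤ := (Int.gcd (g - 1) D : ℤ)
  obtain ⟨e0⟩ := zmultiples_equiv δ hδ0 (D + 1 - g)
  obtain ⟨e1⟩ := zmultiples_equiv δ hδ0 a₁
  let eH : valueSubgroup δ (m := m) (D + 1 - g) a₁ ≃+
      AddSubgroup.zmultiples ((D + 1 - g : ℤ) : ZMod δ) × (Fin m → AddSubgroup.zmultiples (a₁ : ZMod δ)) :=
    { toFun := fun z => (⟨z.1.1, ((mem_valueSubgroup δ).1 z.2).1⟩, fun i => ⟨z.1.2 i, ((mem_valueSubgroup δ).1 z.2).2 i⟩)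
      invFun := fun z => ⟨(z.1.1, fun i => (z.2 i).1), (mem_valueSubgroup δ).2 ⟨z.1.2, fun i => (z.2 i).2⟩⟩
      map_add' := fun _ _ => rfl
      left_inv := fun _ => rfl
      right_inv := fun _ => rfl }
  exact ⟨((AddEquiv.addSubgroupMap (evalBasis δ u) (AddSubgroup.closure (gens δ g d))).trans
    ((AddEquiv.addSubgroupCongr (map_closure_gens δ g hδ d u D hu)).trans eH)).trans
    (e0.prodCongr (AddEquiv.piCongrRight fun _ => e1))⟩

end BoundaryForms
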